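import Cfsg.Agent.CGT.Pres

/-! Column data of the presented group `Cfsg.Spor.Th`. -/

namespace CL.CGT.Th

noncomputable section

def cl : List (Cfsg.Spor.Th.Gen × Bool) := [(.a, true), (.b, true), (.c, true), (.d, true), (.e, true), (.s,
    true), (.s, false), (.t, true), (.t, false), (.u, true), (.u, false)]

def idx : Cfsg.Spor.Th.Gen → ℕ
  | .a => 0
  | .b => 1
  | .c => 2
  | .d => 3
  | .e => 4
  | .s => 5
  | .t => 7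
  | .u => 9

def IV : ℕ := nat_lit 0x90a070805060403020100

def prs : List (ℕ × ℕ × ℕ) := []

def ex : List WE := [.pow (.g 0) 2,
  .pow (.g 1) 2,
  .pow (.g 2) 2,
  .pow (.g 3) 2,
  .pow (.g 4) 2,
  .pow (.mul (.g 0) (.g 1)) 3,
  .pow (.mul (.g 0) (.g 4)) 2,
  .pow (.mul (.g 1) (.g 2)) 3,
  .pow (.mul (.g 1) (.g 3)) 2,
  .pow (.mul (.g 1) (.g 4)) 2,
  .mul (.g 0) (.inv (.pow (.mul (.g 2) (.g 3)) 4)),
  .pow (.mul (.g 2) (.g 4)) 2,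
  .pow (.mul (.g 3) (.g 4)) 3,
  .pow (.mul (.mul (.mul (.g 1) (.g 2)) (.g 3)) (.g 4)) 8,
  .pow (.g 5) 7,
  .mul (.mul (.mul (.inv (.g 5)) (.inv (.g 0))) (.g 5)) (.g 0),
  .mul (.mul (.mul (.inv (.g 5)) (.inv (.g 1))) (.g 5)) (.g 1),
  .mul (.mul (.mul (.inv (.g 5)) (.inv (.g 2))) (.g 5)) (.g 2),
  .pow (.mul (.g 5) (.g 3)) 2,
  .mul (.mul (.mul (.mul (.inv (.g 4)) (.inv (.g 5))) (.g 4)) (.g 5)) (.inv (.mul (.mul (.inv (.pow (.g 5)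
    3)) (.g 4)) (.pow (.g 5) 3))),
  .pow (.g 7) 3,
  .mul (.mul (.mul (.inv (.g 7)) (.inv (.g 0))) (.g 7)) (.g 0),
  .mul (.mul (.mul (.inv (.g 7)) (.inv (.g 1))) (.g 7)) (.g 1),
  .mul (.mul (.mul (.inv (.g 7)) (.inv (.g 2))) (.g 7)) (.g 2),
  .mul (.mul (.mul (.inv (.g 7)) (.inv (.g 3))) (.g 7)) (.g 3),
  .mul (.mul (.mul (.inv (.g 7)) (.inv (.g 4))) (.g 7)) (.g 4),
  .mul (.mul (.mul (.inv (.g 7)) (.g 5)) (.g 7)) (.inv (.pow (.g 5) 2)),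
  .mul (.pow (.g 9) 2) (.inv (.mul (.g 0) (.g 2))),
  .mul (.mul (.mul (.inv (.g 9)) (.inv (.g 0))) (.g 9)) (.g 0),
  .mul (.mul (.mul (.inv (.g 9)) (.inv (.g 2))) (.g 9)) (.g 2),
  .mul (.mul (.mul (.inv (.g 9)) (.inv (.g 4))) (.g 9)) (.g 4),
  .pow (.mul (.mul (.g 3) (.g 4)) (.mul (.mul (.inv (.g 9)) (.g 3)) (.g 9))) 2,
  .mul (.mul (.mul (.mul (.inv (.g 9)) (.inv (.mul (.mul (.inv (.g 1)) (.mul (.g 0) (.g 2))) (.g 1)))) (.g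
    9)) (.mul (.mul (.inv (.g 1)) (.mul (.g 0) (.g 2))) (.g 1))) (.inv (.g 4)),
  .mul (.mul (.mul (.mul (.inv (.mul (.mul (.inv (.g 3)) (.g 9)) (.g 3))) (.inv (.mul (.mul (.inv (.g 1))
    (.mul (.g 0) (.g 2))) (.g 1)))) (.mul (.mul (.inv (.g 3)) (.g 9)) (.g 3))) (.mul (.mul (.inv (.g 1))
    (.mul (.g 0) (.g 2))) (.g 1))) (.inv (.mul (.mul (.mul (.mul (.mul (.g 9) (.g 4)) (.mul (.mul (.inv (.g
    1)) (.mul (.g 0) (.g 2))) (.g 1))) (.mul (.mul (.inv (.g 3)) (.g 9)) (.g 3))) (.g 4)) (.g 2))),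
  .mul (.mul (.mul (.inv (.g 9)) (.g 7)) (.g 9)) (.inv (.inv (.g 7))),
  .mul (.mul (.mul (.inv (.g 4)) (.inv (.mul (.mul (.inv (.pow (.g 5) 2)) (.g 9)) (.pow (.g 5) 2)))) (.g 4))
    (.mul (.mul (.inv (.pow (.g 5) 2)) (.g 9)) (.pow (.g 5) 2)),
  .mul (.mul (.g 0) (.g 2)) (.inv (.pow (.mul (.g 9) (.g 5)) 3)),
  .mul (.mul (.g 0) (.g 2)) (.inv (.pow (.mul (.mul (.mul (.inv (.g 9)) (.inv (.g 5))) (.g 9)) (.g 5)) 4)),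
  .mul (.pow (.mul (.g 3) (.mul (.mul (.inv (.pow (.g 5) 2)) (.g 9)) (.pow (.g 5) 2))) 4) (.inv (.mul (.mul
    (.mul (.mul (.g 0) (.g 2)) (.mul (.mul (.inv (.g 3)) (.g 2)) (.g 3))) (.mul (.mul (.inv (.mul (.mul (.g
    3) (.g 4)) (.inv (.g 5)))) (.g 2)) (.mul (.mul (.g 3) (.g 4)) (.inv (.g 5))))) (.mul (.mul (.inv (.mul
    (.mul (.g 3) (.g 4)) (.pow (.g 5) 2))) (.g 2)) (.mul (.mul (.g 3) (.g 4)) (.pow (.g 5) 2)))))]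

abbrev iv0 : ℕ → ℕ := ivT IV 11

abbrev base : List (List ℕ) := baseRels iv0 prs ex

theorem cox : CoxData Cfsg.Spor.Th.edges Cfsg.Spor.Th.extra cl idx IV prs ex :=
  ⟨fun x => by cases x <;> rfl, by decide +kernel, by decide +kernel, by decide +kernel, by decide +kernel,
    rfl⟩

/-- the columns. -/
abbrev γ : ℕ → Cfsg.Spor.Th := coxγ Cfsg.Spor.Th.edges Cfsg.Spor.Th.extra cl

theorem hiv : ∀ c, γ (iv0 c) = (γ c)⁻¹ := cox.ivG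

theorem hb : ∀ r ∈ base, wval γ r = 1 := cox.base_rels

theorem genLt_top : genLt γ 11 = ⊤ := cox.genLt_eq_top

end

end CL.CGT.Th
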